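import Groth.Agent.Unibranch.Normal

/-!
Images of finite étale algebras over integrally closed domains in fields.
-/

set_option autoImplicit false

universe u

namespace Groth.Agent.EtNormalLib

variable {A B L : Type u} [CommRing A] [IsDomain A] [IsIntegrallyClosed A]
  [CommRing B] [Algebra A B] [Algebra.Etale A B] [Module.Finite A B]
  [Field L] [Algebra A L] (hA : Function.Injective (algebraMap A L)) (φ : B →ₐ[A] L)

theorem comap_eq_bot_of_minimalPrimes {Q : Ideal B} (hQ : Q ∈ minimalPrimes B) :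
    Q.comap (algebraMap A B) = ⊥ := by
  refine le_bot_iff.1 fun a ha => ?_
  by_contra h0
  have hne : a ≠ 0 := h0
  refine Set.disjoint_left.1 (Ideal.disjoint_nonZeroDivisors_of_mem_minimalPrimes hQ) ha ?_
  have h : IsSMulRegular B (algebraMap A B a) :=
    IsSMulRegular.of_flat (isSMulRegular_iff_right_eq_zero_of_smul.2 fun r hr =>
      (mul_eq_zero.1 hr).resolve_left hne)
  rw [SetLike.mem_coe, mem_nonZeroDivisors_iff_right]
  intro b hb
  exact h.right_eq_zero_of_smul (show algebraMap A B a • b = 0 by rw [smul_eq_mul, mul_comm]; exact hb)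

include hA in
theorem ker_mem_minimalPrimes : RingHom.ker φ.toRingHom ∈ minimalPrimes B := by
  haveI : (RingHom.ker φ.toRingHom).IsPrime := RingHom.ker_isPrime _
  obtain ⟨Q, hQ, hle⟩ := Ideal.exists_minimalPrimes_le (bot_le : ⊥ ≤ RingHom.ker φ.toRingHom)
  haveI : Q.IsPrime := hQ.1.1
  have h : Q.under A = (RingHom.ker φ.toRingHom).under A := by
    rw [Ideal.under_def, Ideal.under_def, comap_eq_bot_of_minimalPrimes hQ]
    refine (le_bot_iff.1 fun a ha => hA ?_).symm
    have ha' : φ (algebraMap A B a) = 0 := ha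
    rwa [φ.commutes, ← map_zero (algebraMap A L)] at ha'
  rwa [← Algebra.QuasiFinite.eq_of_le_of_under_eq Q (RingHom.ker φ.toRingHom) hle h]

theorem eq_of_minimalPrimes_le (A : Type u) [CommRing A] [IsDomain A] [IsIntegrallyClosed A]
    [Algebra A B] [Algebra.Etale A B] {P Q m : Ideal B} [m.IsPrime] (hP : P ∈ minimalPrimes B)
    (hQ : Q ∈ minimalPrimes B) (hPm : P ≤ m) (hQm : Q ≤ m) : P = Q := by
  haveI := (Unibranch.isDomain_isIntegrallyClosed_of_etale (A := A) m).1
  suffices h : ∀ P : Ideal B, P ∈ minimalPrimes B → P ≤ m →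
      P = RingHom.ker (algebraMap B (Localization.AtPrime m)) from (h P hP hPm).trans (h Q hQ hQm).symm
  intro P hP hPm
  haveI : P.IsPrime := hP.1.1
  refine le_antisymm (hP.2 ⟨RingHom.ker_isPrime _, bot_le⟩ fun x hx => ?_) fun x hx => ?_
  · obtain ⟨⟨t, ht⟩, htx⟩ := (IsLocalization.map_eq_zero_iff m.primeCompl (Localization.AtPrime m) x).1 hx
    exact (Ideal.IsPrime.mem_or_mem inferInstance (show t * x ∈ P from htx ▸ P.zero_mem)).resolve_left
      fun h => ht (hPm h)
  · obtain ⟨⟨t, ht⟩, htx⟩ := (IsLocalization.map_eq_zero_iff m.primeCompl (Localization.AtPrime m) x).1 hx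
    exact (Ideal.IsPrime.mem_or_mem inferInstance (show t * x ∈ P from htx ▸ P.zero_mem)).resolve_left
      fun h => ht (hPm h)

theorem isReduced (A : Type u) [CommRing A] [IsDomain A] [IsIntegrallyClosed A] [Algebra A B]
    [Algebra.Etale A B] : IsReduced B := by
  refine ⟨fun x hx => ?_⟩
  refine eq_zero_of_localization x fun J hJ => ?_
  haveI := hJ
  haveI := (Unibranch.isDomain_isIntegrallyClosed_of_etale (A := A) J).1
  exact (hx.map (algebraMap B (Localization.AtPrime J))).eq_zero

include hA in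
theorem exists_idempotent_ker :
    ∃ e : B, IsIdempotentElem e ∧ RingHom.ker φ.toRingHom = Ideal.span {e} := by
  classical
  let P := RingHom.ker φ.toRingHom
  have hP : P ∈ minimalPrimes B := ker_mem_minimalPrimes hA φ
  have hfin : (minimalPrimes B).Finite :=
    (Algebra.QuasiFinite.finite_primesOver (R := A) (S := B) ⊥).subset fun Q hQ =>
      ⟨hQ.1.1, ⟨(comap_eq_bot_of_minimalPrimes (A := A) hQ).symm⟩⟩
  let s := hfin.toFinset.erase P
  have hcop : P ⊔ s.inf id = ⊤ := by
    by_contra h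
    obtain ⟨m, hm, hle⟩ := Ideal.exists_le_maximal _ h
    obtain ⟨Q, hQ, hQm⟩ := hm.isPrime.inf_le'.1 (le_sup_right.trans hle)
    rw [Finset.mem_erase, Set.Finite.mem_toFinset] at hQ
    exact hQ.1 (eq_of_minimalPrimes_le A hQ.2 hP hQm (le_sup_left.trans hle))
  have hinf : P ⊓ s.inf id = ⊥ := by
    refine le_bot_iff.1 fun x hx => ?_
    have h : x ∈ sInf (minimalPrimes B) := by
      refine Submodule.mem_sInf.2 fun Q hQ => ?_
      by_cases hQP : Q = P
      · exact hQP ▸ hx.1
      · exact (Finset.inf_le (f := id) (Finset.mem_erase.2 ⟨hQP, hfin.mem_toFinset.2 hQ⟩) :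
          s.inf id ≤ Q) hx.2
    rw [show sInf (minimalPrimes B) = (⊥ : Ideal B).radical from Ideal.sInf_minimalPrimes] at h
    haveI := isReduced (B := B) A
    obtain ⟨n, hn⟩ := h
    exact (Submodule.mem_bot B).2 (IsNilpotent.eq_zero ⟨n, (Submodule.mem_bot B).1 hn⟩)
  obtain ⟨e, he, f, hf, hef⟩ := Submodule.mem_sup.1 (hcop ▸ Submodule.mem_top : (1 : B) ∈ P ⊔ s.inf id)
  have hkey : ∀ x ∈ P, x * e = x := fun x hx => by
    have : x * f ∈ P ⊓ s.inf id := ⟨P.mul_mem_right f hx, Ideal.mul_mem_left _ x hf⟩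
    rw [hinf, Submodule.mem_bot] at this
    linear_combination x * hef - this
  refine ⟨e, hkey e he, le_antisymm (fun x hx => Ideal.mem_span_singleton'.2 ⟨x, hkey x hx⟩) ?_⟩
  rw [Ideal.span_singleton_le_iff_mem]
  exact he

include hA in
theorem etale_range : Algebra.Etale A φ.range := by
  obtain ⟨e, he, hker⟩ := exists_idempotent_ker hA φ
  have he' : IsIdempotentElem (1 - e) := he.one_sub
  have h2 : RingHom.ker (Ideal.Quotient.mk (Ideal.span ({e} : Set B))) = Ideal.span {1 - (1 - e)} := by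
    rw [Ideal.mk_ker, sub_sub_cancel]
  haveI : IsLocalization.Away (1 - e) (B ⧸ Ideal.span ({e} : Set B)) :=
    IsLocalization.away_of_isIdempotentElem he' h2 Ideal.Quotient.mk_surjective
  haveI : Algebra.Etale B (B ⧸ Ideal.span ({e} : Set B)) := Algebra.Etale.of_isLocalizationAway (1 - e)
  haveI : Algebra.Etale A (B ⧸ Ideal.span ({e} : Set B)) := Algebra.Etale.comp A B _
  refine Algebra.Etale.of_equiv ((Ideal.quotientEquivAlgOfEq A hker.symm).trans
    (AlgEquiv.ofBijective (Ideal.Quotient.liftₐ (RingHom.ker φ.toRingHom) φ.rangeRestrict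
      (fun a ha => Subtype.ext ha)) ⟨?_, ?_⟩))
  · refine (injective_iff_map_eq_zero _).2 fun x hx => ?_
    obtain ⟨b, rfl⟩ := Ideal.Quotient.mk_surjective x
    refine Ideal.Quotient.eq_zero_iff_mem.2 ?_
    exact congrArg Subtype.val hx
  · rintro ⟨_, b, rfl⟩
    exact ⟨Ideal.Quotient.mk _ b, rfl⟩

include hA in
theorem mem_range_of_isIntegral (x : L) (hx : IsIntegral A x)
    (hfrac : ∃ u v : B, φ v ≠ 0 ∧ x * φ v = φ u) : x ∈ φ.range := by
  classical
  let P := RingHom.ker φ.toRingHom
  have hP : P ∈ minimalPrimes B := ker_mem_minimalPrimes hA φ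
  let I : Ideal B :=
    { carrier := {b | φ b * x ∈ φ.range}
      add_mem' := fun {a b} ha hb => by
        show φ (a + b) * x ∈ φ.range
        rw [map_add, add_mul]; exact add_mem ha hb
      zero_mem' := by
        show φ 0 * x ∈ φ.range
        rw [map_zero, zero_mul]; exact zero_mem _
      smul_mem' := fun c b hb => by
        show φ (c * b) * x ∈ φ.range
        rw [map_mul, mul_assoc]; exact mul_mem ⟨c, rfl⟩ hb }
  suffices h : I = ⊤ by
    have h1 : φ 1 * x ∈ φ.range := (I.eq_top_iff_one.1 h : (1 : B) ∈ I)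
    rwa [map_one, one_mul] at h1
  by_contra hI
  obtain ⟨m, hm, hIm⟩ := Ideal.exists_le_maximal _ hI
  have hPm : P ≤ m := fun b hb => hIm (show φ b * x ∈ φ.range by
    rw [show φ b = 0 from hb, zero_mul]; exact zero_mem _)
  obtain ⟨hd, hic⟩ := Unibranch.isDomain_isIntegrallyClosed_of_etale (A := A) m
  let D := Localization.AtPrime m
  have hu : ∀ t : m.primeCompl, IsUnit (φ t) := fun t =>
    isUnit_iff_ne_zero.2 fun h => t.2 (hPm h)
  let ψ : D →ₐ[A] L := IsLocalization.liftAlgHom (M := m.primeCompl) (f := φ) hu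
  have hψ : ∀ b, ψ (algebraMap B D b) = φ b := fun b => IsLocalization.lift_eq _ b
  haveI : P.IsPrime := hP.1.1
  have hker : ∀ b ∈ P, algebraMap B D b = 0 := by
    intro b hb
    have hQ : RingHom.ker (algebraMap B D) ≤ P := fun y hy => by
      obtain ⟨⟨t, ht⟩, hty⟩ := (IsLocalization.map_eq_zero_iff m.primeCompl D y).1 hy
      exact (Ideal.IsPrime.mem_or_mem inferInstance (show t * y ∈ P from hty ▸ P.zero_mem)).resolve_left
        fun h => ht (hPm h)
    exact hP.2 ⟨RingHom.ker_isPrime _, bot_le⟩ hQ hb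
  have hinj : Function.Injective ψ := by
    refine (injective_iff_map_eq_zero _).2 fun d hd' => ?_
    obtain ⟨b, t, rfl⟩ := IsLocalization.exists_mk'_eq m.primeCompl d
    have h1 := congrArg ψ (IsLocalization.mk'_spec D b t)
    rw [map_mul, hd', zero_mul, hψ] at h1
    rw [IsLocalization.mk'_eq_zero_iff]
    exact (IsLocalization.map_eq_zero_iff m.primeCompl D b).1 (hker b h1.symm)
  obtain ⟨u, v, hv, huv⟩ := hfrac
  let σ : FractionRing D →+* L := IsFractionRing.lift (g := ψ.toRingHom) hinj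
  have hσ : ∀ d, σ (algebraMap D (FractionRing D) d) = ψ d := fun d => IsFractionRing.lift_algebraMap _ d
  let y : FractionRing D := algebraMap D _ (algebraMap B D u) / algebraMap D _ (algebraMap B D v)
  have hy : σ y = x := by
    rw [map_div₀, hσ, hσ, hψ, hψ, div_eq_iff hv, huv]
  have hyint : IsIntegral D y := by
    obtain ⟨p, hp, hpx⟩ := hx
    refine ⟨p.map (algebraMap A D), hp.map _, σ.injective ?_⟩
    rw [Polynomial.eval₂_map, Polynomial.hom_eval₂, map_zero, hy, ← RingHom.comp_assoc]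
    have : (σ.comp (algebraMap D (FractionRing D))).comp (algebraMap A D) = algebraMap A L :=
      RingHom.ext fun a => (hσ _).trans (ψ.commutes a)
    rw [this, hpx]
  obtain ⟨d, hd'⟩ := IsIntegrallyClosed.algebraMap_eq_of_integral hyint
  obtain ⟨b, t, rfl⟩ := IsLocalization.exists_mk'_eq m.primeCompl d
  refine t.2 (hIm (show φ t * x ∈ φ.range from ⟨b, ?_⟩))
  show φ b = φ t * x
  rw [← hy, ← hd', hσ, ← hψ b, ← hψ t, ← map_mul, mul_comm (algebraMap B D _), IsLocalization.mk'_spec]

end Groth.Agent.EtNormalLib
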